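import Groth.Agent.ResProp.EF.Grp
import Mathlib.RingTheory.TensorProduct.Maps
import Mathlib.LinearAlgebra.Contraction

/-!
# `End T` as a comodule

For a comodule `T`, finite and projective over `k`, over a commutative Hopf algebra `A`, the universal point `U ∈ End T ⊗ A`
(`U (v ⊗ 1) = ρ v`) is invertible and `f ↦ U (f ⊗ 1) U⁻¹` is a comodule structure on `End T`; it is the only one for which
evaluation is a morphism.
-/

set_option autoImplicit false

open TensorProduct

noncomputable section

namespace Groth.Agent.ResProp.EF.K949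

universe u v w w'

section Gen

variable (k : Type u) [CommRing k] (V : Type v) [AddCommGroup V] [Module k V]
variable (W : Type w) [CommRing W] [Algebra k W]

/-- the action of `End V ⊗ W` on `V ⊗ W` -/
def Th : (Module.End k V) ⊗[k] W →ₐ[k] Module.End k (V ⊗[k] W) :=
  (Module.endTensorEndAlgHom (R := k) (S := k) (A := k) (M := V) (N := W)).comp
    (Algebra.TensorProduct.map (AlgHom.id k _) (Algebra.lmul k W))

variable {k V W}

@[simp] theorem Th_tmul (f : Module.End k V) (a : W) (v : V) (b : W) :
    Th k V W (f ⊗ₜ a) (v ⊗ₜ b) = f v ⊗ₜ (a * b) := rfl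

theorem Th_one (x : (Module.End k V) ⊗[k] W) (v : V) :
    Th k V W x (v ⊗ₜ 1) = rTensorHomToHomRTensor (.id k) V V W x v := by
  induction x using TensorProduct.induction_on with
  | zero => simp
  | add x y hx hy => simp [hx, hy]
  | tmul f a => simp

/-- `End V ⊗ W = Hom(V, V ⊗ W)`: injectivity -/
theorem Th_ext [Module.Projective k V] [Module.Finite k V] {x y : (Module.End k V) ⊗[k] W}
    (h : ∀ v, Th k V W x (v ⊗ₜ 1) = Th k V W y (v ⊗ₜ 1)) : x = y := by
  apply (rTensorHomEquivHomRTensor k V V W).injective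
  apply LinearMap.ext
  intro v
  rw [rTensorHomEquivHomRTensor_apply, rTensorHomEquivHomRTensor_apply, ← Th_one, ← Th_one]
  exact h v

variable {W' : Type w'} [CommRing W'] [Algebra k W']

/-- naturality of the action in the coefficient ring -/
theorem Th_map (g : W →ₐ[k] W') (x : (Module.End k V) ⊗[k] W) (y : V ⊗[k] W) :
    g.toLinearMap.lTensor V (Th k V W x y) =
      Th k V W' (Algebra.TensorProduct.map (AlgHom.id k (Module.End k V)) g x) (g.toLinearMap.lTensor V y) := by
  induction x using TensorProduct.induction_on with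
  | zero => simp
  | add x x' hx hx' => simp only [map_add, LinearMap.add_apply, hx, hx']
  | tmul f a =>
    induction y using TensorProduct.induction_on with
    | zero => simp
    | add y y' hy hy' => rw [map_add, map_add, map_add, map_add, hy, hy']
    | tmul v b => simp

end Gen

section Univ

variable {k : Type u} [CommRing k] {A : Type w} [CommRing A] [HopfAlgebra k A]
  {V : Type v} [AddCommGroup V] [Module k V]

/-- positions 1, 2 -/
def p12 : (Module.End k V) ⊗[k] A →ₐ[k] (Module.End k V) ⊗[k] (A ⊗[k] A) :=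
  Algebra.TensorProduct.map (AlgHom.id k _) Algebra.TensorProduct.includeLeft

/-- positions 1, 3 -/
def p13 : (Module.End k V) ⊗[k] A →ₐ[k] (Module.End k V) ⊗[k] (A ⊗[k] A) :=
  Algebra.TensorProduct.map (AlgHom.id k _) Algebra.TensorProduct.includeRight

/-- `id ⊗ Δ` -/
def pD : (Module.End k V) ⊗[k] A →ₐ[k] (Module.End k V) ⊗[k] (A ⊗[k] A) :=
  Algebra.TensorProduct.map (AlgHom.id k _) (Bialgebra.comulAlgHom k A)

/-- `id ⊗ ε` -/
def pE : (Module.End k V) ⊗[k] A →ₐ[k] (Module.End k V) ⊗[k] k :=
  Algebra.TensorProduct.map (AlgHom.id k _) (Bialgebra.counitAlgHom k A)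

@[simp] theorem p12_tmul (f : Module.End k V) (a : A) : p12 (f ⊗ₜ[k] a) = f ⊗ₜ (a ⊗ₜ 1) := rfl
@[simp] theorem p13_tmul (f : Module.End k V) (a : A) : p13 (f ⊗ₜ[k] a) = f ⊗ₜ (1 ⊗ₜ a) := rfl
@[simp] theorem pD_tmul (f : Module.End k V) (a : A) :
    pD (f ⊗ₜ[k] a) = f ⊗ₜ (CoalgebraStruct.comul (R := k) a) := rfl
@[simp] theorem pE_tmul (f : Module.End k V) (a : A) :
    pE (f ⊗ₜ[k] a) = f ⊗ₜ (CoalgebraStruct.counit (R := k) a) := rfl

theorem Th_p12 (x : (Module.End k V) ⊗[k] A) (y : V ⊗[k] A) (a : A) :
    Th k V (A ⊗[k] A) (p12 x) (TensorProduct.assoc k V A A (y ⊗ₜ a)) =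
      TensorProduct.assoc k V A A (Th k V A x y ⊗ₜ a) := by
  induction x using TensorProduct.induction_on with
  | zero => simp
  | add x x' hx hx' => simp only [map_add, LinearMap.add_apply, hx, hx', TensorProduct.add_tmul]
  | tmul f b =>
    induction y using TensorProduct.induction_on with
    | zero => simp
    | add y y' hy hy' => simp only [map_add, TensorProduct.add_tmul, hy, hy']
    | tmul v b' => simp

variable [Module.Projective k V] [Module.Finite k V]

/-- the universal point of the group in `End V` -/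
def U (c : HopfRep.Comod k A V) : (Module.End k V) ⊗[k] A := (rTensorHomEquivHomRTensor k V V A).symm c.coact

theorem Th_U (c : HopfRep.Comod k A V) (v : V) : Th k V A (U c) (v ⊗ₜ 1) = c.coact v := by
  rw [Th_one, ← rTensorHomEquivHomRTensor_apply, U, LinearEquiv.apply_symm_apply]

theorem pD_U (c : HopfRep.Comod k A V) : pD (U c) = p12 (U c) * p13 (U c) := by
  apply Th_ext
  intro v
  have h1 : Th k V (A ⊗[k] A) (pD (U c)) (v ⊗ₜ 1) = (CoalgebraStruct.comul (R := k) (A := A)).lTensor V (c.coact v) := by
    have := Th_map (Bialgebra.comulAlgHom k A) (U c) (v ⊗ₜ 1)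
    rw [Th_U] at this
    refine Eq.trans ?_ this.symm
    simp [pD]
  have h2 : Th k V (A ⊗[k] A) (p13 (U c)) (v ⊗ₜ 1) =
      (Algebra.TensorProduct.includeRight : A →ₐ[k] A ⊗[k] A).toLinearMap.lTensor V (c.coact v) := by
    have := Th_map (Algebra.TensorProduct.includeRight : A →ₐ[k] A ⊗[k] A) (U c) (v ⊗ₜ 1)
    rw [Th_U] at this
    refine Eq.trans ?_ this.symm
    simp [p13]
    rfl
  have h3 : ∀ y : V ⊗[k] A, Th k V (A ⊗[k] A) (p12 (U c))
      ((Algebra.TensorProduct.includeRight : A →ₐ[k] A ⊗[k] A).toLinearMap.lTensor V y) =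
      TensorProduct.assoc k V A A (c.coact.rTensor A y) := by
    intro y
    induction y using TensorProduct.induction_on with
    | zero => simp
    | add y y' hy hy' => simp only [map_add, hy, hy']
    | tmul v a =>
      have := Th_p12 (U c) (v ⊗ₜ 1) a
      rw [Th_U] at this
      simpa using this
  rw [h1, map_mul, Module.End.mul_apply, h2, h3]
  exact (LinearMap.congr_fun c.coassoc v).symm

theorem pE_U (c : HopfRep.Comod k A V) : pE (U c) = 1 := by
  apply Th_ext
  intro v
  have := Th_map (Bialgebra.counitAlgHom k A) (U c) (v ⊗ₜ 1)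
  rw [Th_U] at this
  have h2 := LinearMap.congr_fun c.counit_comp v
  rw [map_one]
  refine Eq.trans ?_ h2
  refine Eq.trans ?_ this.symm
  simp [pE]

/-- the inverse of the universal point -/
def U' (c : HopfRep.Comod k A V) : (Module.End k V) ⊗[k] A := (HopfAlgebraStruct.antipode k (A := A)).lTensor _ (U c)

theorem U_mul_U' (c : HopfRep.Comod k A V) : U c * U' c = 1 := by
  let L : (Module.End k V) ⊗[k] (A ⊗[k] A) →ₗ[k] (Module.End k V) ⊗[k] A :=
    (LinearMap.mul' k A ∘ₗ (HopfAlgebraStruct.antipode k (A := A)).lTensor A).lTensor _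
  have h1 : ∀ x y : (Module.End k V) ⊗[k] A, L (p12 x * p13 y) =
      x * (HopfAlgebraStruct.antipode k (A := A)).lTensor _ y := by
    intro x y
    induction x using TensorProduct.induction_on with
    | zero => simp
    | add x x' hx hx' => rw [map_add, add_mul, map_add, hx, hx', add_mul]
    | tmul f a =>
      induction y using TensorProduct.induction_on with
      | zero => simp
      | add y y' hy hy' => rw [map_add, mul_add, map_add, hy, hy', map_add, mul_add]
      | tmul g b => simp [L]
  have h2 : ∀ x : (Module.End k V) ⊗[k] A, L (pD x) =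
      Algebra.TensorProduct.map (AlgHom.id k (Module.End k V)) (Algebra.ofId k A) (pE x) := by
    intro x
    induction x using TensorProduct.induction_on with
    | zero => simp
    | add x x' hx hx' => simp only [map_add, hx, hx']
    | tmul f a =>
      have := HopfAlgebra.mul_antipode_lTensor_comul_apply (R := k) (A := A) a
      simp only [L, pD_tmul, LinearMap.lTensor_tmul, LinearMap.comp_apply, pE_tmul,
        Algebra.TensorProduct.map_tmul, AlgHom.coe_id, id_eq, this]
      rfl
  have := h1 (U c) (U c)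
  rw [← pD_U, h2, pE_U, map_one] at this
  exact this.symm

theorem U'_mul_U (c : HopfRep.Comod k A V) : U' c * U c = 1 := by
  let L : (Module.End k V) ⊗[k] (A ⊗[k] A) →ₗ[k] (Module.End k V) ⊗[k] A :=
    (LinearMap.mul' k A ∘ₗ (HopfAlgebraStruct.antipode k (A := A)).rTensor A).lTensor _
  have h1 : ∀ x y : (Module.End k V) ⊗[k] A, L (p12 x * p13 y) =
      (HopfAlgebraStruct.antipode k (A := A)).lTensor _ x * y := by
    intro x y
    induction x using TensorProduct.induction_on with
    | zero => simp
    | add x x' hx hx' => rw [map_add, add_mul, map_add, hx, hx', map_add, add_mul]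
    | tmul f a =>
      induction y using TensorProduct.induction_on with
      | zero => simp
      | add y y' hy hy' => rw [map_add, mul_add, map_add, hy, hy', mul_add]
      | tmul g b => simp [L]
  have h2 : ∀ x : (Module.End k V) ⊗[k] A, L (pD x) =
      Algebra.TensorProduct.map (AlgHom.id k (Module.End k V)) (Algebra.ofId k A) (pE x) := by
    intro x
    induction x using TensorProduct.induction_on with
    | zero => simp
    | add x x' hx hx' => simp only [map_add, hx, hx']
    | tmul f a =>
      have := HopfAlgebra.mul_antipode_rTensor_comul_apply (R := k) (A := A) a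
      simp only [L, pD_tmul, LinearMap.lTensor_tmul, LinearMap.comp_apply, pE_tmul,
        Algebra.TensorProduct.map_tmul, AlgHom.coe_id, id_eq, this]
      rfl
  have := h1 (U c) (U c)
  rw [← pD_U, h2, pE_U, map_one] at this
  exact this.symm

/-- conjugation by the universal point -/
def endCoact (c : HopfRep.Comod k A V) : Module.End k V →ₗ[k] (Module.End k V) ⊗[k] A :=
  LinearMap.mulRight k (U' c) ∘ₗ LinearMap.mulLeft k (U c) ∘ₗ (TensorProduct.mk k (Module.End k V) A).flip 1

theorem endCoact_apply (c : HopfRep.Comod k A V) (f : Module.End k V) :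
    endCoact c f = U c * (f ⊗ₜ 1) * U' c := rfl

theorem endCoact_one (c : HopfRep.Comod k A V) : endCoact c 1 = 1 ⊗ₜ 1 := by
  rw [endCoact_apply, ← Algebra.TensorProduct.one_def, mul_one, U_mul_U']

/-- **the comodule `End V`** -/
@[reducible] def endComod (c : HopfRep.Comod k A V) : HopfRep.Comod k A (Module.End k V) where
  coact := endCoact c
  coassoc := by
    have h1 : ∀ x : (Module.End k V) ⊗[k] A, TensorProduct.assoc k _ A A ((endCoact c).rTensor A x) =
        p12 (U c) * p13 x * p12 (U' c) := by
      have h2 : ∀ (y : (Module.End k V) ⊗[k] A) (a : A), TensorProduct.assoc k _ A A (y ⊗ₜ a) =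
          p12 y * (1 ⊗ₜ (1 ⊗ₜ a)) := by
        intro y a
        induction y using TensorProduct.induction_on with
        | zero => simp
        | add y y' hy hy' => rw [TensorProduct.add_tmul, map_add, hy, hy', map_add, add_mul]
        | tmul f b => simp
      intro x
      induction x using TensorProduct.induction_on with
      | zero => simp
      | add x x' hx hx' => simp only [map_add, hx, hx', mul_add, add_mul]
      | tmul f a =>
        rw [LinearMap.rTensor_tmul, h2, endCoact_apply, map_mul, map_mul]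
        have h3 : ∀ z : (Module.End k V) ⊗[k] A, p12 z * (1 ⊗ₜ (1 ⊗ₜ a)) = (1 ⊗ₜ (1 ⊗ₜ a)) * p12 z := by
          intro z
          induction z using TensorProduct.induction_on with
          | zero => simp
          | add y y' hy hy' => rw [map_add, add_mul, mul_add, hy, hy']
          | tmul f b => simp
        rw [mul_assoc, h3, ← mul_assoc, mul_assoc (p12 (U c)) _ (1 ⊗ₜ (1 ⊗ₜ a))]
        simp
    apply LinearMap.ext
    intro f
    have h4 := congrArg p13 (U_mul_U' c)
    change TensorProduct.assoc k _ A A ((endCoact c).rTensor A (endCoact c f)) =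
      (CoalgebraStruct.comul (R := k) (A := A)).lTensor _ (endCoact c f)
    have h5 : (CoalgebraStruct.comul (R := k) (A := A)).lTensor _ (endCoact c f) = pD (endCoact c f) := rfl
    have h6 : pD (U' c) = p13 (U' c) * p12 (U' c) := by
      have e1 : pD (U c) * pD (U' c) = 1 := by rw [← map_mul, U_mul_U', map_one]
      have e2 : p13 (U' c) * p12 (U' c) * pD (U c) = 1 := by
        rw [pD_U, mul_assoc, ← mul_assoc (p12 (U' c)), ← map_mul, U'_mul_U, map_one, one_mul, ← map_mul, U'_mul_U,
          map_one]
      calc pD (U' c) = (p13 (U' c) * p12 (U' c) * pD (U c)) * pD (U' c) := by rw [e2, one_mul]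
        _ = _ := by rw [mul_assoc, e1, mul_one]
    rw [h1, h5, endCoact_apply, map_mul, map_mul, map_mul, map_mul, pD_U, h6]
    have h7 : pD (f ⊗ₜ[k] (1 : A)) = p13 (f ⊗ₜ[k] (1 : A)) := by
      rw [pD_tmul, p13_tmul, Bialgebra.comul_one, Algebra.TensorProduct.one_def]
    rw [h7]
    simp only [mul_assoc]
  counit_comp := by
    apply LinearMap.ext
    intro f
    change (CoalgebraStruct.counit (R := k) (A := A)).lTensor _ (endCoact c f) = f ⊗ₜ 1
    have h5 : (CoalgebraStruct.counit (R := k) (A := A)).lTensor _ (endCoact c f) = pE (endCoact c f) := rfl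
    have h6 : pE (U' c) = 1 := by
      have e1 : pE (U c) * pE (U' c) = 1 := by rw [← map_mul, U_mul_U', map_one]
      rwa [pE_U, one_mul] at e1
    rw [h5, endCoact_apply, map_mul, map_mul, pE_U, h6, one_mul, mul_one, pE_tmul, Bialgebra.counit_one]

/-- the multiplication `(V ⊗ A) ⊗ (W ⊗ A) → (V ⊗ W) ⊗ A` -/
def mu (k : Type u) [CommRing k] (A : Type w) [CommRing A] [Algebra k A] (V : Type v) [AddCommGroup V] [Module k V]
    (X : Type w') [AddCommGroup X] [Module k X] : (V ⊗[k] A) ⊗[k] (X ⊗[k] A) →ₗ[k] (V ⊗[k] X) ⊗[k] A :=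
  TensorProduct.map LinearMap.id (LinearMap.mul' k A) ∘ₗ
    (AlgebraTensorModule.tensorTensorTensorComm k k k k V A X A).toLinearMap

@[simp] theorem mu_tmul (k : Type u) [CommRing k] (A : Type w) [CommRing A] [Algebra k A] (V : Type v)
    [AddCommGroup V] [Module k V] (X : Type w') [AddCommGroup X] [Module k X] (v : V) (a : A) (x : X) (b : A) :
    mu k A V X ((v ⊗ₜ a) ⊗ₜ (x ⊗ₜ b)) = (v ⊗ₜ x) ⊗ₜ (a * b) := rfl

omit [Module.Projective k V] [Module.Finite k V] in
theorem tensor_coact {X : Type w'} [AddCommGroup X] [Module k X] (c : HopfRep.Comod k A V) (d : HopfRep.Comod k A X)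
    (v : V) (x : X) : (ComodTens.Comod.tensor c d).coact (v ⊗ₜ[k] x) = mu k A V X (c.coact v ⊗ₜ d.coact x) := rfl

omit [Module.Projective k V] [Module.Finite k V] in
theorem ev_mu (x : (Module.End k V) ⊗[k] A) (y : V ⊗[k] A) :
    (TensorProduct.lift (LinearMap.id : Module.End k V →ₗ[k] Module.End k V)).rTensor A
      (mu k A (Module.End k V) V (x ⊗ₜ y)) = Th k V A x y := by
  induction x using TensorProduct.induction_on with
  | zero => simp
  | add x x' hx hx' => rw [TensorProduct.add_tmul, map_add, map_add, hx, hx', map_add, LinearMap.add_apply]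
  | tmul f a =>
    induction y using TensorProduct.induction_on with
    | zero => simp
    | add y y' hy hy' => rw [TensorProduct.tmul_add, map_add, map_add, hy, hy', map_add]
    | tmul v b => simp

omit [Module.Projective k V] [Module.Finite k V] in
/-- evaluation is a morphism for the structure `co` -/
theorem ev_iff_Th (c : HopfRep.Comod k A V) (co : HopfRep.Comod k A (Module.End k V)) :
    (@Hoch.IsComodHom k _ A _ _ _ (Module.End k V ⊗[k] V) _ _ (ComodTens.Comod.tensor co c) V _ _ c
      (TensorProduct.lift LinearMap.id)) ↔ ∀ f v, c.coact (f v) = Th k V A (co.coact f) (c.coact v) := by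
  constructor
  · intro h f v
    have := LinearMap.congr_fun h (f ⊗ₜ v)
    simp only [LinearMap.comp_apply, tensor_coact, ev_mu] at this
    exact this
  · intro h
    apply TensorProduct.ext'
    intro f v
    simp only [LinearMap.comp_apply, tensor_coact, ev_mu]
    exact h f v

theorem coact_eq_Th (c : HopfRep.Comod k A V) (f : Module.End k V) (v : V) :
    c.coact (f v) = Th k V A (U c * (f ⊗ₜ 1)) (v ⊗ₜ 1) := by
  rw [map_mul, Module.End.mul_apply, Th_tmul, mul_one, Th_U]

/-- `x = U (f ⊗ 1) U⁻¹` if `x · ρ v = ρ (f v)` for all `v` -/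
theorem eq_endCoact (c : HopfRep.Comod k A V) (f : Module.End k V) (x : (Module.End k V) ⊗[k] A)
    (h : ∀ v, Th k V A x (c.coact v) = c.coact (f v)) : x = endCoact c f := by
  have h2 : x * U c = U c * (f ⊗ₜ 1) := by
    apply Th_ext
    intro v
    rw [← coact_eq_Th, map_mul, Module.End.mul_apply, Th_U]
    exact h v
  rw [endCoact_apply, ← h2, mul_assoc, U_mul_U', mul_one]

theorem Th_endCoact (c : HopfRep.Comod k A V) (f : Module.End k V) (v : V) :
    Th k V A (endCoact c f) (c.coact v) = c.coact (f v) := by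
  rw [coact_eq_Th, endCoact_apply, ← Th_U, ← Module.End.mul_apply, ← map_mul, mul_assoc _ (U' c), U'_mul_U, mul_one]

/-- evaluation is a morphism for the structure `co` iff `co f = U (f ⊗ 1) U⁻¹` -/
theorem ev_iff (c : HopfRep.Comod k A V) (co : HopfRep.Comod k A (Module.End k V)) :
    (@Hoch.IsComodHom k _ A _ _ _ (Module.End k V ⊗[k] V) _ _ (ComodTens.Comod.tensor co c) V _ _ c
      (TensorProduct.lift LinearMap.id)) ↔ ∀ f, co.coact f = endCoact c f := by
  rw [ev_iff_Th]
  constructor
  · intro h f
    exact eq_endCoact c f _ fun v => (h f v).symm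
  · intro h f v
    rw [h, Th_endCoact]

end Univ

section Tens

variable {k : Type u} [CommRing k] {A : Type w} [CommRing A] [HopfAlgebra k A]
  {V : Type v} [AddCommGroup V] [Module k V] {X : Type w'} [AddCommGroup X] [Module k X]

theorem Th_mu (x : (Module.End k V) ⊗[k] A) (x' : (Module.End k X) ⊗[k] A) (y : V ⊗[k] A) (y' : X ⊗[k] A) :
    Th k (V ⊗[k] X) A ((homTensorHomMap (.id k) V X V X).rTensor A (mu k A _ _ (x ⊗ₜ x'))) (mu k A V X (y ⊗ₜ y')) =
      mu k A V X (Th k V A x y ⊗ₜ Th k X A x' y') := by
  induction x using TensorProduct.induction_on with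
  | zero => simp
  | add x₁ x₂ h₁ h₂ =>
    rw [TensorProduct.add_tmul, map_add, map_add, map_add, LinearMap.add_apply, h₁, h₂, map_add, LinearMap.add_apply,
      TensorProduct.add_tmul, map_add]
  | tmul f a =>
    induction x' using TensorProduct.induction_on with
    | zero => simp
    | add x₁ x₂ h₁ h₂ =>
      rw [TensorProduct.tmul_add, map_add, map_add, map_add, LinearMap.add_apply, h₁, h₂, map_add,
        LinearMap.add_apply, TensorProduct.tmul_add, map_add]
    | tmul g b =>
      induction y using TensorProduct.induction_on with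
      | zero => simp
      | add x₁ x₂ h₁ h₂ => rw [TensorProduct.add_tmul, map_add, map_add, h₁, h₂, map_add, TensorProduct.add_tmul, map_add]
      | tmul v c =>
        induction y' using TensorProduct.induction_on with
        | zero => simp
        | add x₁ x₂ h₁ h₂ =>
          rw [TensorProduct.tmul_add, map_add, map_add, h₁, h₂, map_add, TensorProduct.tmul_add, map_add]
        | tmul v' d =>
          rw [mu_tmul, mu_tmul, LinearMap.rTensor_tmul, Th_tmul, Th_tmul, Th_tmul, mu_tmul, homTensorHomMap_apply,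
            TensorProduct.map_tmul, mul_mul_mul_comm]

variable [Module.Projective k V] [Module.Finite k V] [Module.Projective k X] [Module.Finite k X]

/-- `End V ⊗ End X → End (V ⊗ X)` is a morphism -/
theorem endCoact_map (c : HopfRep.Comod k A V) (d : HopfRep.Comod k A X) (f : Module.End k V) (g : Module.End k X) :
    endCoact (ComodTens.Comod.tensor c d) (TensorProduct.map f g) =
      (homTensorHomMap (.id k) V X V X).rTensor A (mu k A _ _ (endCoact c f ⊗ₜ endCoact d g)) := by
  symm
  apply eq_endCoact
  intro w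
  induction w using TensorProduct.induction_on with
  | zero => simp
  | add x₁ x₂ h₁ h₂ => rw [map_add, map_add, h₁, h₂, map_add, map_add]
  | tmul v x =>
    rw [tensor_coact, Th_mu, Th_endCoact, Th_endCoact, TensorProduct.map_tmul, tensor_coact]

end Tens

section Main

open Grp

variable {k : Type u} [CommRing k] {E : Gp k}

/-- `f : M → N` is a morphism of modules -/
abbrev GHom (M N : GMod E) (f : M.V →ₗ[k] N.V) : Prop := @Hoch.IsComodHom k _ E.O _ _ _ M.V _ _ M.co N.V _ _ N.co f

/-- `m ↦ m ⊗ x` is a morphism if `x` is invariant -/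
theorem gHom_tmulR (M N : GMod E) (x : N.V) (hx : N.co.coact x = x ⊗ₜ 1) : GHom M (M.tens N) (tmulR M N x) := by
  apply LinearMap.ext
  intro m
  change (ComodTens.Comod.tensor M.co N.co).coact (m ⊗ₜ x) = (tmulR M N x).rTensor E.O (M.co.coact m)
  rw [tensor_coact, hx]
  generalize M.co.coact m = y
  induction y using TensorProduct.induction_on with
  | zero => simp
  | add y y' hy hy' => rw [TensorProduct.add_tmul, map_add, map_add, hy, hy']
  | tmul v b =>
    rw [mu_tmul, mul_one]
    rfl

variable (T : GMod E) [Module.Free k T.V] [Module.Finite k T.V]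

/-- the structure `f ↦ U (f ⊗ 1) U⁻¹` -/
def endStr : EndStr T where
  co := endComod T.co
  ev := (ev_iff T.co (endComod T.co)).2 fun _ => rfl

/-- (1) `End T` is a module -/
theorem exists_endStr : Nonempty (EndStr T) := ⟨endStr T⟩

variable {T}

theorem coact_apply (e : EndStr T) (f : Module.End k T.V) : e.co.coact f = endCoact T.co f :=
  (ev_iff T.co e.co).1 e.ev f

/-- (2) the unit of `End T` is invariant -/
theorem coact_one (e : EndStr T) : e.co.coact 1 = 1 ⊗ₜ 1 := by
  rw [coact_apply, endCoact_one]

/-- (3) `M → M ⊗ End T`, `m ↦ m ⊗ 1` is a morphism -/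
theorem gHom_tmulR_one (e : EndStr T) (M : GMod E) : GHom M (M.tens e.mod) (tmulR M e.mod 1) :=
  gHom_tmulR M e.mod 1 (coact_one e)

/-- (4) uniqueness -/
theorem co_eq (e e' : EndStr T) : e.co = e'.co := by
  have h : e.co.coact = e'.co.coact := LinearMap.ext fun f => by rw [coact_apply, coact_apply]
  cases h1 : e.co
  cases h2 : e'.co
  rw [h1, h2] at h
  cases h
  rfl

theorem endStr_eq (e e' : EndStr T) : e = e' := by
  have h := co_eq e e'
  cases e
  cases e'
  cases h
  rfl

omit [Module.Free k T.V] [Module.Finite k T.V] in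
/-- (5) restriction to another group -/
theorem exists_res {E' : Gp k} (φ : E.O →ₐc[k] E'.O) (e : EndStr T) :
    ∃ e' : EndStr (T.res φ), e'.co = GLin.comodAlong φ e.co := by
  refine ⟨⟨GLin.comodAlong φ e.co, ?_⟩, rfl⟩
  refine (ev_iff_Th (GLin.comodAlong φ T.co) (GLin.comodAlong φ e.co)).2 fun f v => ?_
  have h := (ev_iff_Th T.co e.co).1 e.ev f v
  have h2 := Th_map (φ : E.O →ₐ[k] E'.O) (e.co.coact f) (T.co.coact v)
  rw [← h] at h2
  exact h2

/-- (6) `End T ⊗ End T' = End (T ⊗ T')` -/
theorem exists_tensorEquiv {T' : GMod E} [Module.Free k T'.V] [Module.Finite k T'.V] (e : EndStr T) (e' : EndStr T')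
    (e'' : EndStr (T.tens T')) :
    ∃ h : (Module.End k T.V ⊗[k] Module.End k T'.V) ≃ₗ[k] Module.End k (T.V ⊗[k] T'.V),
      GHom (e.mod.tens e'.mod) e''.mod (h : (Module.End k T.V ⊗[k] Module.End k T'.V) →ₗ[k] Module.End k (T.V ⊗[k] T'.V)) ∧
      GHom e''.mod (e.mod.tens e'.mod)
        (h.symm : Module.End k (T.V ⊗[k] T'.V) →ₗ[k] (Module.End k T.V ⊗[k] Module.End k T'.V)) ∧
      h (1 ⊗ₜ 1) = 1 ∧ ∀ f f', h (f ⊗ₜ f') = TensorProduct.map f f' := by
  have h1 : ∀ f f', homTensorHomEquiv k T.V T'.V T.V T'.V (f ⊗ₜ f') = TensorProduct.map f f' := by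
    intro f f'
    rw [← LinearEquiv.coe_toLinearMap, homTensorHomEquiv_toLinearMap, homTensorHomMap_apply]
  have h2 : GHom (e.mod.tens e'.mod) e''.mod (homTensorHomEquiv k T.V T'.V T.V T'.V).toLinearMap := by
    apply TensorProduct.ext'
    intro f f'
    change e''.co.coact (homTensorHomEquiv k T.V T'.V T.V T'.V (f ⊗ₜ f')) =
      (homTensorHomEquiv k T.V T'.V T.V T'.V).toLinearMap.rTensor E.O
        ((ComodTens.Comod.tensor e.co e'.co).coact (f ⊗ₜ f'))
    rw [h1, coact_apply e'', tensor_coact, coact_apply, coact_apply, homTensorHomEquiv_toLinearMap]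
    exact endCoact_map T.co T'.co f f'
  refine ⟨homTensorHomEquiv k T.V T'.V T.V T'.V, h2, ?_, ?_, h1⟩
  · apply LinearMap.ext
    intro F
    obtain ⟨z, rfl⟩ := (homTensorHomEquiv k T.V T'.V T.V T'.V).surjective F
    have h3 := LinearMap.congr_fun h2 z
    change (e.mod.tens e'.mod).co.coact ((homTensorHomEquiv k T.V T'.V T.V T'.V).symm (homTensorHomEquiv k T.V T'.V T.V T'.V z)) =
      (homTensorHomEquiv k T.V T'.V T.V T'.V).symm.toLinearMap.rTensor E.O (e''.co.coact (homTensorHomEquiv k T.V T'.V T.V T'.V z))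
    change e''.co.coact (homTensorHomEquiv k T.V T'.V T.V T'.V z) =
      (homTensorHomEquiv k T.V T'.V T.V T'.V).toLinearMap.rTensor E.O ((e.mod.tens e'.mod).co.coact z) at h3
    rw [h3, LinearEquiv.symm_apply_apply, ← LinearMap.comp_apply, ← LinearMap.rTensor_comp,
      LinearEquiv.symm_comp, LinearMap.rTensor_id, LinearMap.id_apply]
  · rw [h1]
    exact TensorProduct.map_one

end Main

end Groth.Agent.ResProp.EF.K949
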